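import Mathlib
import Groth.Prelude.Def_AlgGrp
import Groth.Agent.Lib.Helper4.ActShear

/-!
# Equaliser loci over an unramified morphism, and a fibrewise openness lemma
-/

set_option autoImplicit false
universe u

open CategoryTheory MonoidalCategory CartesianMonoidalCategory MonObj AlgebraicGeometry Limits

namespace Groth.Agent.Lib.Helper24.FixEtale

section Cartesian

variable {C : Type*} [Category C] [CartesianMonoidalCategory C]

/-- `K × (G × G)` is the fibre product of two copies of `K × G` over `K` -/
theorem isPullback_whisker_fst_snd (K G : C) :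
    IsPullback (K ◁ fst G G) (K ◁ snd G G) (fst K G) (fst K G) := by
  have w : (K ◁ fst G G) ≫ fst K G = (K ◁ snd G G) ≫ fst K G := by
    rw [whiskerLeft_fst, whiskerLeft_fst]
  refine ⟨⟨w⟩, ⟨PullbackCone.IsLimit.mk w
    (fun s => lift (s.fst ≫ fst K G) (lift (s.fst ≫ snd K G) (s.snd ≫ snd K G))) ?_ ?_ ?_⟩⟩
  · intro s
    apply CartesianMonoidalCategory.hom_ext
    · rw [Category.assoc, whiskerLeft_fst, lift_fst]
    · rw [Category.assoc, whiskerLeft_snd, ← Category.assoc, lift_snd, lift_fst]
  · intro s
    apply CartesianMonoidalCategory.hom_ext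
    · rw [Category.assoc, whiskerLeft_fst, lift_fst, s.condition]
    · rw [Category.assoc, whiskerLeft_snd, ← Category.assoc, lift_snd, lift_snd]
  · intro s m h1 h2
    apply CartesianMonoidalCategory.hom_ext
    · rw [lift_fst, ← h1, Category.assoc, whiskerLeft_fst]
    · apply CartesianMonoidalCategory.hom_ext
      · rw [lift_snd, lift_fst, ← h1, Category.assoc, Category.assoc, whiskerLeft_snd]
      · rw [lift_snd, lift_snd, ← h2, Category.assoc, Category.assoc, whiskerLeft_snd]

end Cartesian

/-- the image in `A` of the part of an open subset of `A ×_Z B` lying over a point of `B` is open,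
when `Z` is the spectrum of a field -/
theorem isOpen_image_fibre {W A B Z : Scheme.{u}} {p₁ : W ⟶ A} {p₂ : W ⟶ B} {π₁ : A ⟶ Z}
    {π₂ : B ⟶ Z} (H : IsPullback p₁ p₂ π₁ π₂) [IsIntegral Z] [Subsingleton Z] (O : Set W)
    (hO : IsOpen O) (z : B) : IsOpen (p₁ '' (O ∩ p₂ ⁻¹' {z})) := by
  let zκ := B.fromSpecResidueField z
  let u := pullback.fst p₂ zκ
  let v := pullback.snd p₂ zκ
  have hu : Set.range u = p₂ ⁻¹' {z} := by
    rw [Scheme.Pullback.range_fst, Scheme.range_fromSpecResidueField]
  have t : IsPullback u v p₂ zκ := IsPullback.of_hasPullback _ _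
  have big : IsPullback (u ≫ p₁) v π₁ (zκ ≫ π₂) := t.paste_horiz H
  haveI : UniversallyOpen (zκ ≫ π₂) := inferInstance
  haveI : UniversallyOpen (u ≫ p₁) :=
    MorphismProperty.of_isPullback (P := @UniversallyOpen) big.flip inferInstance
  have : p₁ '' (O ∩ p₂ ⁻¹' {z}) = (u ≫ p₁) '' (u ⁻¹' O) := by
    rw [← hu, ← Set.image_preimage_eq_inter_range, ← Set.image_comp]
    rfl
  rw [this]
  exact (u ≫ p₁).isOpenMap _ (hO.preimage u.continuous)

section EqLocus

variable {P X Y : Scheme.{u}} (α β : P ⟶ X) (f : X ⟶ Y) (h : α ≫ f = β ≫ f)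

/-- the locus where two morphisms over `Y` agree (open when `f` is unramified) -/
def eqLocus : Set P := (pullback.lift α β h) ⁻¹' Set.range (pullback.diagonal f)

variable [IsOpenImmersion (pullback.diagonal f)]

theorem isOpen_eqLocus : IsOpen (eqLocus α β f h) :=
  (pullback.diagonal f).isOpenEmbedding.isOpen_range.preimage (pullback.lift α β h).continuous

omit [IsOpenImmersion (pullback.diagonal f)] in
theorem mem_eqLocus_of_comp_eq {R : Scheme.{u}} (r : R ⟶ P) (hr : r ≫ α = r ≫ β) (pt : R) :
    r pt ∈ eqLocus α β f h := by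
  have e : r ≫ pullback.lift α β h = (r ≫ α) ≫ pullback.diagonal f := by
    apply pullback.hom_ext
    · rw [Category.assoc, Category.assoc, pullback.lift_fst, pullback.diagonal_fst,
        Category.comp_id]
    · rw [Category.assoc, Category.assoc, pullback.lift_snd, pullback.diagonal_snd,
        Category.comp_id, hr]
  show (pullback.lift α β h) (r pt) ∈ Set.range (pullback.diagonal f)
  rw [← Scheme.Hom.comp_apply, e, Scheme.Hom.comp_apply]
  exact ⟨_, rfl⟩

theorem comp_eq_of_range_subset_eqLocus {R : Scheme.{u}} (r : R ⟶ P)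
    (hr : Set.range r ⊆ eqLocus α β f h) : r ≫ α = r ≫ β := by
  have hsub : Set.range (r ≫ pullback.lift α β h) ⊆ Set.range (pullback.diagonal f) := by
    rintro _ ⟨pt, rfl⟩
    rw [Scheme.Hom.comp_apply]
    exact hr ⟨pt, rfl⟩
  let ρ := IsOpenImmersion.lift (pullback.diagonal f) (r ≫ pullback.lift α β h) hsub
  have hρ : ρ ≫ pullback.diagonal f = r ≫ pullback.lift α β h := IsOpenImmersion.lift_fac _ _ _
  have h1 := congr($hρ ≫ pullback.fst f f)
  have h2 := congr($hρ ≫ pullback.snd f f)
  simp only [Category.assoc, pullback.diagonal_fst, pullback.diagonal_snd, pullback.lift_fst,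
    pullback.lift_snd, Category.comp_id] at h1 h2
  rw [← h1, ← h2]

end EqLocus

end Groth.Agent.Lib.Helper24.FixEtale
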