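import Mathlib
import Groth.Prelude.Def_Red
import Groth.Agent.Lib.Helper24.Blanchard.Main

/-!
# A group scheme with connected fibres has geometrically connected fibres
-/

set_option autoImplicit false
universe u

open CategoryTheory MonoidalCategory CartesianMonoidalCategory MonObj AlgebraicGeometry Limits

namespace Groth.Agent.Lib.Helper24.FixEtale

variable {S : Scheme.{u}} (G : Over S) [GrpObj G]

theorem geometricallyConnected_of_connected_fibres
    (hconn : ∀ s : S, ConnectedSpace (G.hom.fiber s)) : GeometricallyConnected G.hom := by
  rw [GeometricallyConnected.iff_geometricallyConnected_fiber]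
  intro s
  let Gs : Over (Spec (CommRingCat.of (S.residueField s))) := Red.bc (S.fromSpecResidueField s) G
  haveI : ConnectedSpace Gs.left := hconn s
  exact Groth.Agent.Lib.Helper24.Blanchard.geometricallyConnected_of_grpObj Gs

/-- base changes of a group with connected fibres to fields are connected -/
theorem connectedSpace_tensor [UniversallyOpen G.hom]
    (hconn : ∀ s : S, ConnectedSpace (G.hom.fiber s)) (K : Over S) [Subsingleton K.left]
    [Nonempty K.left] : ConnectedSpace (K ⊗ G).left := by
  haveI := geometricallyConnected_of_connected_fibres G hconn
  haveI : ConnectedSpace K.left := ⟨‹_›⟩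
  exact (inferInstance : ConnectedSpace ↥(Limits.pullback K.hom G.hom))

end Groth.Agent.Lib.Helper24.FixEtale
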