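import Mathlib
import Groth.Agent.Lib.Helper24.FixEtale.Basic

/-!
# Equivariant unramified morphisms reflect fixed points of groups with connected fibres
-/

set_option autoImplicit false
universe u

open CategoryTheory MonoidalCategory CartesianMonoidalCategory MonObj AlgebraicGeometry Limits

namespace Groth.Agent.Lib.Helper24.FixEtale

open Groth.Agent.Lib.Helper4.ActShear

variable {S : Scheme.{u}} {G X Y : Over S} [GrpObj G] (a : AlgGrp.Action G X)
  (b : AlgGrp.Action G Y) (f : X ⟶ Y) (hf : a.act ≫ f = (G ◁ f) ≫ b.act)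

/-- `(t, g) ↦ g · x(t)` -/
noncomputable def alpha {T : Over S} (x : T ⟶ X) : T ⊗ G ⟶ X := smul a (snd T G) (fst T G ≫ x)

/-- `(t, g) ↦ x(t)` -/
noncomputable def beta {T : Over S} (x : T ⟶ X) : T ⊗ G ⟶ X := fst T G ≫ x

theorem comp_alpha {R T : Over S} (x : T ⟶ X) (r : R ⟶ T ⊗ G) :
    r ≫ alpha a x = smul a (r ≫ snd T G) ((r ≫ fst T G) ≫ x) := by
  unfold alpha
  rw [comp_smul, Category.assoc]

theorem comp_beta {R T : Over S} (x : T ⟶ X) (r : R ⟶ T ⊗ G) :
    r ≫ beta x = (r ≫ fst T G) ≫ x := by
  unfold beta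
  rw [Category.assoc]

/-- a point is fixed after every base change -/
def UFixed {T : Over S} (y : T ⟶ Y) : Prop :=
  ∀ (T' : Over S) (t : T' ⟶ T) (g : T' ⟶ G), smul b g (t ≫ y) = t ≫ y

variable {b} in
theorem UFixed.comp {T T' : Over S} {y : T ⟶ Y} (h : UFixed b y) (t : T' ⟶ T) :
    UFixed b (t ≫ y) := by
  intro T'' t' g
  rw [← Category.assoc]
  exact h T'' (t' ≫ t) g

include hf in
theorem smul_comp {T : Over S} (g : T ⟶ G) (x : T ⟶ X) : smul a g x ≫ f = smul b g (x ≫ f) := by
  unfold smul
  rw [Category.assoc, hf, ← Category.assoc, lift_whiskerLeft]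

include hf in
theorem alpha_comp {T : Over S} (x : T ⟶ X) (hx : UFixed b (x ≫ f)) :
    alpha a x ≫ f = beta x ≫ f := by
  unfold alpha beta
  rw [smul_comp a b f hf, Category.assoc]
  exact hx _ (fst T G) (snd T G)

include hf in
theorem alpha_comp_left {T : Over S} (x : T ⟶ X) (hx : UFixed b (x ≫ f)) :
    (alpha a x).left ≫ f.left = (beta x).left ≫ f.left := by
  rw [← Over.comp_left, ← Over.comp_left, alpha_comp a b f hf x hx]

/-- the stabiliser of `x` as a subset of `T × G` -/
def stab {T : Over S} (x : T ⟶ X) (hx : UFixed b (x ≫ f)) : Set (T ⊗ G).left :=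
  eqLocus (alpha a x).left (beta x).left f.left (alpha_comp_left a b f hf x hx)

theorem mem_stab {T R : Over S} (x : T ⟶ X) (hx : UFixed b (x ≫ f)) (r : R ⟶ T ⊗ G)
    (hr : smul a (r ≫ snd T G) ((r ≫ fst T G) ≫ x) = (r ≫ fst T G) ≫ x) (pt : R.left) :
    r.left pt ∈ stab a b f hf x hx := by
  apply mem_eqLocus_of_comp_eq
  rw [← Over.comp_left, ← Over.comp_left, comp_alpha, comp_beta, hr]

theorem smul_eq_of_range_subset_stab [IsOpenImmersion (pullback.diagonal f.left)] {T R : Over S}
    (x : T ⟶ X) (hx : UFixed b (x ≫ f)) (r : R ⟶ T ⊗ G)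
    (hr : Set.range r.left ⊆ stab a b f hf x hx) :
    smul a (r ≫ snd T G) ((r ≫ fst T G) ≫ x) = (r ≫ fst T G) ≫ x := by
  have := comp_eq_of_range_subset_eqLocus _ _ _ (alpha_comp_left a b f hf x hx) r.left hr
  rw [← Over.comp_left, ← Over.comp_left] at this
  have h2 : r ≫ alpha a x = r ≫ beta x := Over.OverMorphism.ext this
  rwa [comp_alpha, comp_beta] at h2

/-- the point of `R × G`-type objects given by the residue field of a point -/
theorem exists_residue_point (P : Over S) (p : P.left) :
    ∃ (R : Over S) (r : R ⟶ P) (pt : R.left), r.left pt = p ∧ Set.range r.left = {p} ∧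
      IsIntegral R.left ∧ Subsingleton R.left ∧ Nonempty R.left := by
  refine ⟨Over.mk (P.left.fromSpecResidueField p ≫ P.hom),
    Over.homMk (P.left.fromSpecResidueField p) rfl, IsLocalRing.closedPoint _, ?_, ?_, ?_, ?_, ?_⟩
  · exact Scheme.fromSpecResidueField_apply _ _
  · exact Scheme.range_fromSpecResidueField _
  · exact inferInstanceAs (IsIntegral (Spec (P.left.residueField p)))
  · exact inferInstanceAs (Subsingleton (Spec (P.left.residueField p)))
  · exact inferInstanceAs (Nonempty (Spec (P.left.residueField p)))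

include hf in
/-- over a "field" `K`, the stabiliser of a point whose image is fixed is everything -/
theorem stab_eq_univ_of_field [IsOpenImmersion (pullback.diagonal f.left)] (K : Over S)
    [IsIntegral K.left] [Subsingleton K.left] [Nonempty K.left] [ConnectedSpace (K ⊗ G).left]
    (x : K ⟶ X) (hx : UFixed b (x ≫ f)) : stab a b f hf x hx = Set.univ := by
  set E := stab a b f hf x hx with hE
  have hopen : IsOpen E := isOpen_eqLocus _ _ _ _
  -- the unit section lies in the stabiliser
  let eP : K ⊗ G ⟶ K ⊗ G := lift (fst K G) (toUnit _ ≫ η[G])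
  have heP : ∀ z : (K ⊗ G).left, eP.left z ∈ E := by
    intro z
    apply mem_stab
    rw [lift_snd, lift_fst, one_smul']
  -- the translates
  let W : Over S := K ⊗ (G ⊗ G)
  let p₁ : W ⟶ K ⊗ G := K ◁ fst G G
  let p₂ : W ⟶ K ⊗ G := K ◁ snd G G
  let Θ : W ⟶ K ⊗ G := K ◁ ((snd G G)⁻¹ * fst G G)
  have Hpb : IsPullback p₁.left p₂.left (fst K G).left (fst K G).left :=
    (isPullback_whisker_fst_snd K G).map (Over.forget S)
  have hO : IsOpen (Θ.left ⁻¹' E) := hopen.preimage Θ.left.continuous
  have hclosed : IsClosed E := by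
    rw [← isOpen_compl_iff, isOpen_iff_forall_mem_open]
    intro z hz
    refine ⟨_, ?_, isOpen_image_fibre Hpb _ hO z, ?_⟩
    · rintro _ ⟨w, ⟨hw1, hw2⟩, rfl⟩ hw3
      rw [Set.mem_preimage, Set.mem_singleton_iff] at hw2
      apply hz
      obtain ⟨R, r, pt, hpt, hrange, -, -, -⟩ := exists_residue_point W w
      have e1 := smul_eq_of_range_subset_stab a b f hf x hx (r ≫ p₁) (by
        rw [Over.comp_left, Scheme.Hom.comp_base, TopCat.coe_comp, Set.range_comp, hrange,
          Set.image_singleton, Set.singleton_subset_iff]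
        exact hw3)
      have e2 := smul_eq_of_range_subset_stab a b f hf x hx (r ≫ Θ) (by
        rw [Over.comp_left, Scheme.Hom.comp_base, TopCat.coe_comp, Set.range_comp, hrange,
          Set.image_singleton, Set.singleton_subset_iff]
        exact hw1)
      have hc1 : (r ≫ p₁) ≫ fst K G = r ≫ fst K (G ⊗ G) := by
        rw [Category.assoc, whiskerLeft_fst]
      have hc2 : (r ≫ Θ) ≫ fst K G = r ≫ fst K (G ⊗ G) := by
        rw [Category.assoc, whiskerLeft_fst]
      have hc3 : (r ≫ p₂) ≫ fst K G = r ≫ fst K (G ⊗ G) := by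
        rw [Category.assoc, whiskerLeft_fst]
      have hs1 : (r ≫ p₁) ≫ snd K G = (r ≫ snd K (G ⊗ G)) ≫ fst G G := by
        rw [Category.assoc, whiskerLeft_snd, Category.assoc]
      have hs3 : (r ≫ p₂) ≫ snd K G = (r ≫ snd K (G ⊗ G)) ≫ snd G G := by
        rw [Category.assoc, whiskerLeft_snd, Category.assoc]
      have hs2 : (r ≫ Θ) ≫ snd K G =
          ((r ≫ snd K (G ⊗ G)) ≫ snd G G)⁻¹ * ((r ≫ snd K (G ⊗ G)) ≫ fst G G) := by
        rw [Category.assoc, whiskerLeft_snd, ← Category.assoc, MonObj.comp_mul, GrpObj.comp_inv]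
      rw [hc1, hs1] at e1
      rw [hc2, hs2] at e2
      set c := r ≫ fst K (G ⊗ G)
      set h₁ := (r ≫ snd K (G ⊗ G)) ≫ fst G G
      set h₂ := (r ≫ snd K (G ⊗ G)) ≫ snd G G
      have e3 : smul a h₂ (c ≫ x) = c ≫ x := by
        have : smul a h₂ (smul a (h₂⁻¹ * h₁) (c ≫ x)) = smul a h₁ (c ≫ x) := by
          rw [Hom.mul_def, ← mul_smul', ← Hom.mul_def, ← Hom.mul_def, mul_inv_cancel_left]
        rw [e2, e1] at this
        exact this
      have := mem_stab a b f hf x hx (r ≫ p₂) (by rw [hc3, hs3]; exact e3) pt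
      rw [Over.comp_left, Scheme.Hom.comp_apply, hpt, hw2] at this
      exact this
    · let δ : K ⊗ G ⟶ W := lift (fst K G) (lift (snd K G) (snd K G))
      have hδ1 : δ ≫ p₁ = 𝟙 _ := by
        apply CartesianMonoidalCategory.hom_ext
        · rw [Category.assoc, whiskerLeft_fst, lift_fst, Category.id_comp]
        · rw [Category.assoc, whiskerLeft_snd, ← Category.assoc, lift_snd, lift_fst,
            Category.id_comp]
      have hδ2 : δ ≫ p₂ = 𝟙 _ := by
        apply CartesianMonoidalCategory.hom_ext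
        · rw [Category.assoc, whiskerLeft_fst, lift_fst, Category.id_comp]
        · rw [Category.assoc, whiskerLeft_snd, ← Category.assoc, lift_snd, lift_snd,
            Category.id_comp]
      have hδ3 : δ ≫ Θ = eP := by
        apply CartesianMonoidalCategory.hom_ext
        · rw [Category.assoc, whiskerLeft_fst, lift_fst, lift_fst]
        · rw [Category.assoc, whiskerLeft_snd, ← Category.assoc, lift_snd, lift_snd,
            MonObj.comp_mul, GrpObj.comp_inv, lift_snd, lift_fst, inv_mul_cancel, Hom.one_def]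
      refine ⟨δ.left z, ⟨?_, ?_⟩, ?_⟩
      · show Θ.left (δ.left z) ∈ E
        rw [← Scheme.Hom.comp_apply, ← Over.comp_left, hδ3]
        exact heP z
      · show p₂.left (δ.left z) = z
        rw [← Scheme.Hom.comp_apply, ← Over.comp_left, hδ2]
        rfl
      · rw [← Scheme.Hom.comp_apply, ← Over.comp_left, hδ1]
        rfl
  have hne : E.Nonempty := ⟨_, heP (Classical.arbitrary _)⟩
  exact IsClopen.eq_univ ⟨hclosed, hopen⟩ hne

include hf in
/-- **Unramified equivariant morphisms reflect fixed points**, for groups all of whose base changes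
to fields are connected. -/
theorem smul_eq_of_ufixed [IsOpenImmersion (pullback.diagonal f.left)]
    (hconn : ∀ (K : Over S) [IsIntegral K.left] [Subsingleton K.left] [Nonempty K.left],
      ConnectedSpace (K ⊗ G).left)
    {T : Over S} (x : T ⟶ X) (hx : UFixed b (x ≫ f)) (g : T ⟶ G) : smul a g x = x := by
  -- the stabiliser is everything
  have huniv : stab a b f hf x hx = Set.univ := by
    rw [Set.eq_univ_iff_forall]
    intro p
    obtain ⟨K, q, pt, hpt, -, h1, h2, h3⟩ := exists_residue_point (T ⊗ G) p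
    haveI := h1
    haveI := h2
    haveI := h3
    haveI := hconn K
    let c := q ≫ fst T G
    have hxK : UFixed b ((c ≫ x) ≫ f) := by
      rw [Category.assoc]; exact hx.comp c
    have hK := stab_eq_univ_of_field a b f hf K (c ≫ x) hxK
    let σ : K ⟶ K ⊗ G := lift (𝟙 K) (q ≫ snd T G)
    have e := smul_eq_of_range_subset_stab a b f hf (c ≫ x) hxK σ (by rw [hK]; exact Set.subset_univ _)
    rw [lift_snd, lift_fst, Category.id_comp] at e
    have := mem_stab a b f hf x hx q e pt
    rwa [hpt] at this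
  let σ : T ⟶ T ⊗ G := lift (𝟙 T) g
  have e := smul_eq_of_range_subset_stab a b f hf x hx σ (by rw [huniv]; exact Set.subset_univ _)
  rwa [lift_snd, lift_fst, Category.id_comp] at e

end Groth.Agent.Lib.Helper24.FixEtale
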